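import Groth.Agent.Pi1.H391.LocTensor
import Groth.Agent.Etrest.IntHens
import Groth.Agent.S1964
import Mathlib.FieldTheory.IsAlgClosed.AlgebraicClosure
import Mathlib.RingTheory.Localization.Integral

/-!
# Normal strictly henselian bases

For a strictly henselian local ring `O` and a prime `η`, a normal strictly henselian domain `O'`, integral over `O`,
with kernel `η` and algebraically closed fraction field; and base changes `O' ⊗[O] R`.
-/

set_option autoImplicit false

universe u

open TensorProduct IsLocalRing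

namespace Groth.Agent.Pi1.H391.Base

theorem exists_base (O : Type u) [CommRing O] [HenselianLocalRing O] [IsSepClosed (ResidueField O)]
    (η : Ideal O) [η.IsPrime] :
    ∃ (Ω : Type u) (_ : Field Ω) (_ : IsAlgClosed Ω) (O' : Type u) (_ : CommRing O') (_ : IsDomain O')
      (_ : Algebra O O') (_ : Algebra O' Ω) (_ : Algebra.IsIntegral O O') (_ : IsFractionRing O' Ω)
      (_ : IsIntegrallyClosed O') (_ : HenselianLocalRing O'), IsSepClosed (ResidueField O') ∧
      IsLocalHom (algebraMap O O') ∧ RingHom.ker (algebraMap O O') = η := by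
  let K₀ := FractionRing (O ⧸ η)
  let Ω := AlgebraicClosure K₀
  have hinj : ∀ x, algebraMap (O ⧸ η) Ω x = 0 → x = 0 := by
    intro x hx
    rw [IsScalarTower.algebraMap_apply (O ⧸ η) K₀ Ω, map_eq_zero] at hx
    exact (IsFractionRing.injective (O ⧸ η) K₀) (by rw [hx, map_zero])
  have : Algebra.IsAlgebraic (O ⧸ η) K₀ := IsLocalization.isAlgebraic K₀ (nonZeroDivisors (O ⧸ η))
  have : Algebra.IsAlgebraic (O ⧸ η) Ω := Algebra.IsAlgebraic.trans (O ⧸ η) K₀ Ω
  let O' := integralClosure (O ⧸ η) Ω
  have : IsFractionRing O' Ω := integralClosure.isFractionRing_of_algebraic hinj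
  have : Algebra.IsIntegral O (O ⧸ η) := Algebra.isIntegral_of_surjective Ideal.Quotient.mk_surjective
  have : Algebra.IsIntegral (O ⧸ η) O' := inferInstance
  have : IsScalarTower O (O ⧸ η) O' := inferInstance
  have : Algebra.IsIntegral O O' := Algebra.IsIntegral.trans (O ⧸ η)
  have : IsIntegrallyClosed O' := (isIntegrallyClosed_iff_isIntegrallyClosedIn Ω).mpr inferInstance
  obtain ⟨h1, h2, h3⟩ := Groth.Agent.S1964.result O O'
  refine ⟨Ω, inferInstance, inferInstance, O', inferInstance, inferInstance, inferInstance, inferInstance,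
    inferInstance, inferInstance, inferInstance, h1, (h3 inferInstance).1, h2, ?_⟩
  ext x
  rw [RingHom.mem_ker, IsScalarTower.algebraMap_apply O (O ⧸ η) O', ← Ideal.Quotient.eq_zero_iff_mem]
  constructor
  · intro h
    apply hinj
    rw [IsScalarTower.algebraMap_apply (O ⧸ η) O' Ω]
    erw [h]
    exact map_zero _
  · intro h
    erw [h]
    exact map_zero _

section

variable (O : Type u) [CommRing O] [IsLocalRing O] [IsSepClosed (ResidueField O)]
  (O' : Type u) [CommRing O'] [IsLocalRing O'] [Algebra O O'] [Algebra.IsIntegral O O']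
  (R : Type u) [CommRing R] [Algebra O R]

omit [IsLocalRing O] [IsSepClosed (ResidueField O)] [IsLocalRing O'] in
theorem isIntegral_right :
    let _ : Algebra R (O' ⊗[O] R) := Algebra.TensorProduct.rightAlgebra
    Algebra.IsIntegral R (O' ⊗[O] R) := by
  let _ : Algebra R (O' ⊗[O] R) := Algebra.TensorProduct.rightAlgebra
  let e : R ⊗[O] O' ≃ₐ[R] O' ⊗[O] R :=
      { (Algebra.TensorProduct.comm O R O' : R ⊗[O] O' ≃ₐ[O] O' ⊗[O] R) with
        commutes' := fun c => by simp [Algebra.TensorProduct.right_algebraMap_apply] }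
  exact Algebra.IsIntegral.of_surjective e.toAlgHom e.surjective

theorem henselianLocalRing_tensor [HenselianLocalRing R] [IsLocalHom (algebraMap O R)] :
    HenselianLocalRing (O' ⊗[O] R) := by
  let _ : Algebra R (O' ⊗[O] R) := Algebra.TensorProduct.rightAlgebra
  have := isIntegral_right O O' R
  have := LocTensor.isLocalRing_tensor O O' R
  exact Groth.Agent.Etrest.IntHens.henselianLocalRing_of_isIntegral R (O' ⊗[O] R)

theorem isLocalHom_includeRight [IsLocalRing R] [IsLocalHom (algebraMap O R)] :
    IsLocalHom (Algebra.TensorProduct.includeRight : R →ₐ[O] O' ⊗[O] R).toRingHom := by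
  let _ : Algebra R (O' ⊗[O] R) := Algebra.TensorProduct.rightAlgebra
  have := isIntegral_right O O' R
  have := LocTensor.isLocalRing_tensor O O' R
  exact LocTensor.isLocalHom_algebraMap R (O' ⊗[O] R)

omit [IsLocalRing O] [IsSepClosed (ResidueField O)] [IsLocalRing O'] in
theorem isSepClosed_residueField [IsLocalRing R] [IsLocalHom (algebraMap O R)] [IsSepClosed (ResidueField R)]
    [IsLocalRing (O' ⊗[O] R)] : IsSepClosed (ResidueField (O' ⊗[O] R)) := by
  let _ : Algebra R (O' ⊗[O] R) := Algebra.TensorProduct.rightAlgebra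
  have := isIntegral_right O O' R
  have : IsLocalHom (algebraMap R (O' ⊗[O] R)) := LocTensor.isLocalHom_algebraMap R (O' ⊗[O] R)
  have := LocTensor.isPurelyInseparable R (O' ⊗[O] R)
  exact Algebra.IsAlgebraic.isSepClosed (F := ResidueField R)

omit [IsSepClosed (ResidueField O)] in
theorem isLocalHom_left [IsLocalRing R] [IsLocalHom (algebraMap O R)] [IsLocalRing (O' ⊗[O] R)] :
    IsLocalHom (algebraMap O' (O' ⊗[O] R)) := by
  let _ : Algebra R (O' ⊗[O] R) := Algebra.TensorProduct.rightAlgebra
  have := isIntegral_right O O' R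
  have h1 : IsLocalHom (algebraMap R (O' ⊗[O] R)) := LocTensor.isLocalHom_algebraMap R (O' ⊗[O] R)
  -- the composite `O → R → O' ⊗ R` is local
  have h2 : (maximalIdeal (O' ⊗[O] R)).comap (algebraMap R (O' ⊗[O] R)) = maximalIdeal R :=
    IsLocalRing.maximalIdeal_comap _
  have h3 : ((maximalIdeal (O' ⊗[O] R)).comap (algebraMap O' (O' ⊗[O] R))).comap (algebraMap O O') =
      maximalIdeal O := by
    have h4 : (algebraMap O' (O' ⊗[O] R)).comp (algebraMap O O') =
        (algebraMap R (O' ⊗[O] R)).comp (algebraMap O R) := by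
      ext x
      simp [Algebra.TensorProduct.right_algebraMap_apply, Algebra.algebraMap_eq_smul_one]
    rw [Ideal.comap_comap, h4, ← Ideal.comap_comap, h2, IsLocalRing.maximalIdeal_comap]
  have h5 : ((maximalIdeal (O' ⊗[O] R)).comap (algebraMap O' (O' ⊗[O] R))).IsMaximal :=
    Ideal.isMaximal_of_isIntegral_of_isMaximal_comap (R := O) _ (h3 ▸ inferInstance)
  exact ((local_hom_TFAE (algebraMap O' (O' ⊗[O] R))).out 0 4).mpr (IsLocalRing.eq_maximalIdeal h5)

end

end Groth.Agent.Pi1.H391.Base
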