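import Groth.Agent.Pi1.H391.Stmts
import Groth.Agent.Pi1.H391.Stmts2
import Groth.Agent.Pi1.H415.Glue

/-!
# Interface statements for the final assembly of the relative Abhyankar lemma (S3689)
-/

set_option autoImplicit false

universe u

open CategoryTheory CategoryTheory.Limits AlgebraicGeometry TensorProduct IsLocalRing

namespace Groth.Agent.Pi1.H391.Stmts3

open Stmts Stmts2
open Groth.Agent.Pi1.H415.SplitBC Groth.Agent.Pi1.H415.KumBC Groth.Agent.Pi1.H415.Glue

/-- The kummer algebra in one variable `B[X]/(X^n - ϖ)`. -/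
noncomputable abbrev Kum1 (B : Type u) [CommRing B] (ϖ : B) (n : ℕ) : Type u :=
  SGA1t.kummer B (fun _ : Unit => ϖ) (fun _ => n)

/-- (S1) Kummer stage over a normal base: if `C` becomes unramified over the one-variable Kummer algebras
`B_i[X]/(X^{n_i} - t_i)`, `B_i = R_{(t_i)}`, then `C` extends over the full Kummer algebra of `R`, presented as
an opaque algebra `R'`. -/
def KummerStage : Prop :=
  ∀ (O R : Type u) [CommRing O] [IsDomain O] [IsLocalRing O] [IsIntegrallyClosed O]
    [CommRing R] [HenselianLocalRing R] [IsSepClosed (ResidueField R)]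
    [Algebra O R] [IsLocalHom (algebraMap O R)]
    (σ : Type) [Finite σ] [Algebra (MvPolynomial σ O) R] [IsScalarTower O (MvPolynomial σ O) R]
    (_ : Groth.Agent.Hensel.Lazard.Laz (MvPolynomial σ O) R)
    (ι : Type) [Fintype ι] (e : ι → σ) (_ : Function.Injective e) (t : ι → R)
    (_ : ∀ i, algebraMap (MvPolynomial σ O) R (MvPolynomial.X (e i)) = t i)
    (_ : ∀ i, t i ∈ maximalIdeal R) (n : ι → ℕ) (_ : ∀ i, 1 ≤ n i)
    (Rt : Type u) [CommRing Rt] [Algebra R Rt] [IsLocalization.Away (∏ i, t i) Rt]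
    (K : Type u) [Field K] [Algebra R K] [Algebra Rt K] [IsScalarTower R Rt K] [IsFractionRing R K]
    (C : Type u) [CommRing C] [Algebra Rt C] [Module.Finite Rt C] [Algebra.Etale Rt C]
    (_ : ∀ i, ∃ (B : Type u) (_ : CommRing B) (_ : Algebra R B) (_ : Algebra B K)
      (_ : IsScalarTower R B K) (_ : (Ideal.span {t i}).IsPrime)
      (_ : IsLocalization.AtPrime B (Ideal.span {t i}))
      (D : Type u) (_ : CommRing D) (_ : Algebra (Kum1 B (algebraMap R B (t i)) (n i)) D)
      (_ : Module.Finite (Kum1 B (algebraMap R B (t i)) (n i)) D)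
      (_ : Algebra.Etale (Kum1 B (algebraMap R B (t i)) (n i)) D),
      ∀ (Q : Type u) [CommRing Q] [Algebra (Kum1 B (algebraMap R B (t i)) (n i)) Q]
        [Algebra K Q] [Algebra B Q] [IsScalarTower B (Kum1 B (algebraMap R B (t i)) (n i)) Q]
        [IsScalarTower B K Q],
        Nonempty (Q ⊗[Kum1 B (algebraMap R B (t i)) (n i)] D ≃ₐ[Q] Q ⊗[K] (K ⊗[Rt] C)))
    -- any localization `Q` of the Kummer algebra at `∏ t_i`
    (Q : Type u) [CommRing Q] [Algebra (SGA1t.kummer R t n) Q] [Algebra R Q]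
    [IsScalarTower R (SGA1t.kummer R t n) Q] [Algebra Rt Q] [IsScalarTower R Rt Q]
    [IsLocalization.Away (algebraMap R (SGA1t.kummer R t n) (∏ i, t i)) Q],
    ∃ (E : Type u) (_ : CommRing E) (_ : Algebra (SGA1t.kummer R t n) E)
      (_ : Module.Finite (SGA1t.kummer R t n) E) (_ : Algebra.Etale (SGA1t.kummer R t n) E),
      Nonempty (Q ⊗[SGA1t.kummer R t n] E ≃ₐ[Q] Q ⊗[Rt] C)

/-- (S2) Translation of a finite etale cover of the complement in `Spec R` into an algebra. -/
def SchemeAlg : Prop :=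
  ∀ {X : Scheme.{u}} {r : ℕ} (φ : Fin r → Γ(X, ⊤)) (x : X)
    (R : Type u) [CommRing R] [IsLocalRing R] [Algebra (X.presheaf.stalk x) R]
    [IsLocalHom (algebraMap (X.presheaf.stalk x) R)]
    [Fintype (SGA1t.vanishingAt φ x)]
    (V₁ : FEt.Cat (cmpl φ x R : Scheme.{u}))
    (Rt : Type u) [CommRing Rt] [Algebra R Rt] [IsLocalization.Away (∏ i, eqs φ x R i) Rt],
    ∃ (C : Type u) (_ : CommRing C) (_ : Algebra Rt C) (_ : Module.Finite Rt C) (_ : Algebra.Etale Rt C),
      (∀ (L : Type u) [Field L] (g : C →+* L), ∃ v : Spec (CommRingCat.of L) ⟶ V₁.left,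
        v ≫ V₁.hom ≫ (cmpl φ x R).ι =
          Spec.map (CommRingCat.ofHom ((g.comp (algebraMap Rt C)).comp (algebraMap R Rt))) ∧
        Set.range (fun c : Γ(V₁.left, ⊤) =>
          (Scheme.ΓSpecIso (CommRingCat.of L)).hom.hom (v.appTop.hom c)) = Set.range g) ∧
      (∀ (n : SGA1t.vanishingAt φ x → ℕ) (Q : Type u) [CommRing Q]
        [Algebra (SGA1t.kummer R (eqs φ x R) n) Q] [Algebra R Q]
        [IsScalarTower R (SGA1t.kummer R (eqs φ x R) n) Q] [Algebra Rt Q] [IsScalarTower R Rt Q]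
        [IsLocalization.Away (algebraMap R (SGA1t.kummer R (eqs φ x R) n) (∏ i, eqs φ x R i)) Q],
        AlgPtSplit Rt C Q → PtSplit V₁.hom (str R (eqs φ x R) n ∣_ cmpl φ x R))

/-- (S3) Tameness at the local rings of `O' ⊗[O] R`, `O` the strict henselization of `O_{S,f(x)}`, `O'` a
domain over `O` with separably closed fraction field `Ω` and kernel a minimal prime of `O`. -/
def TameStage : Prop :=
  ∀ {X S : Scheme.{u}} (f : X ⟶ S) {r : ℕ} (φ : Fin r → Γ(X, ⊤)) (x : X)
    (R : Type u) [CommRing R] [IsLocalRing R] [Algebra (X.presheaf.stalk x) R]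
    [IsLocalHom (algebraMap (X.presheaf.stalk x) R)] [Hensel.IsStrictHenselization (X.presheaf.stalk x) R]
    (V₁ : FEt.Cat (cmpl φ x R : Scheme.{u}))
    (_ : SGA1t.IsRelTameOver (Hens2.specOf X x R ≫ f) (fun i => (Hens2.specOf X x R).appTop (φ i)) V₁
      {s : S | ∀ s' : S, s' ⤳ s → s' = s})
    [Algebra (S.presheaf.stalk (f x)) R]
    (_ : algebraMap (S.presheaf.stalk (f x)) R =
      (algebraMap (X.presheaf.stalk x) R).comp (f.stalkMap x).hom)
    (O : Type u) [CommRing O] [IsLocalRing O] [Algebra (S.presheaf.stalk (f x)) O]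
    [IsLocalHom (algebraMap (S.presheaf.stalk (f x)) O)]
    [Hensel.IsStrictHenselization (S.presheaf.stalk (f x)) O]
    [Algebra O R] [IsScalarTower (S.presheaf.stalk (f x)) O R]
    (O' Ω : Type u) [CommRing O'] [IsDomain O'] [Algebra O O'] [Field Ω] [IsSepClosed Ω] [Algebra O' Ω]
    [IsFractionRing O' Ω] (_ : RingHom.ker (algebraMap O O') ∈ minimalPrimes O)
    (P : Ideal (O' ⊗[O] R)) [P.IsPrime] (_ : ∀ a : O', a ⊗ₜ[O] (1 : R) ∈ P → a = 0)
    (B : Type u) [CommRing B] [IsDomain B] [IsDiscreteValuationRing B] [Algebra (O' ⊗[O] R) B]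
    [IsLocalization.AtPrime B P]
    (K : Type u) [Field K] [Algebra B K] [IsFractionRing B K]
    (L : Type u) [Field L] [Algebra K L] (v : Spec (CommRingCat.of L) ⟶ V₁.left)
    (_ : v ≫ V₁.hom ≫ (cmpl φ x R).ι =
      Spec.map (CommRingCat.ofHom ((((algebraMap K L).comp (algebraMap B K)).comp
        (algebraMap (O' ⊗[O] R) B)).comp (Algebra.TensorProduct.includeRight : R →ₐ[O] O' ⊗[O] R).toRingHom)))
    (_ : Algebra.adjoin K (Set.range (fun c : Γ(V₁.left, ⊤) =>
      (Scheme.ΓSpecIso (CommRingCat.of L)).hom.hom (v.appTop.hom c))) = ⊤),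
    EtRam.IsTamelyRamified B ((algebraMap K L).comp (algebraMap B K))

/-- (S5) Geometric connectedness of the complement in the Kummer cover, relative to the base `O`. -/
def ConnStage : Prop :=
  ∀ (O R : Type u) [CommRing O] [IsLocalRing O] [HenselianLocalRing O] [IsSepClosed (ResidueField O)]
    [CommRing R] [IsLocalRing R] [HenselianLocalRing R] [IsSepClosed (ResidueField R)]
    [Algebra O R] [IsLocalHom (algebraMap O R)]
    (σ : Type) [Finite σ] [Algebra (MvPolynomial σ O) R] [IsScalarTower O (MvPolynomial σ O) R]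
    (_ : Groth.Agent.Hensel.Lazard.Laz (MvPolynomial σ O) R)
    (ι : Type) [Fintype ι] (e : ι → σ) (_ : Function.Injective e) (t : ι → R)
    (_ : ∀ i, algebraMap (MvPolynomial σ O) R (MvPolynomial.X (e i)) = t i)
    (_ : ∀ i, t i ∈ maximalIdeal R) (n : ι → ℕ) (_ : ∀ i, 1 ≤ n i)
    (A : Type u) [CommRing A] [Algebra (SGA1t.kummer R t n) A] [Algebra O A]
    [IsScalarTower O (SGA1t.kummer R t n) A]
    [IsLocalization.Away (algebraMap R (SGA1t.kummer R t n) (∏ i, t i)) A]
    (O' : Type u) [CommRing O'] [IsLocalRing O'] [Algebra O O'] [Algebra.IsIntegral O O'],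
    ConnectedSpace (PrimeSpectrum (A ⊗[O] O'))

end Groth.Agent.Pi1.H391.Stmts3
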