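import Groth.Agent.Pi1.H391.Stmts
import Groth.Agent.Pi1.H391.Stmts2
import Groth.Agent.Pi1.H391.Stmts3
import Mathlib.LinearAlgebra.Dimension.Constructions
import Mathlib.RingTheory.Etale.Basic

/-!
# Elementary lemmas for the final assembly of the relative Abhyankar lemma
-/

set_option autoImplicit false

universe u

open TensorProduct IsLocalRing

namespace Groth.Agent.Pi1.H391.Split1

open Stmts Stmts2 Stmts3

/-- A bound for the degrees of a finite algebra. -/
theorem exists_bound (A C : Type u) [CommRing A] [CommRing C] [Algebra A C] [Module.Finite A C] :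
    ∃ N : ℕ, ∀ (K : Type u) [Field K] [Algebra A K], Module.finrank K (K ⊗[A] C) ≤ N := by
  obtain ⟨N, f, hf⟩ := Module.Finite.exists_fin' A C
  refine ⟨N, fun K _ _ => ?_⟩
  have hs : Function.Surjective (f.baseChange K) := by
    have := LinearMap.lTensor_surjective K hf
    exact this
  have hA : Nontrivial A := (algebraMap A K).domain_nontrivial
  have h1 : Module.finrank K (K ⊗[A] (Fin N → A)) = N := by
    rw [Module.finrank_baseChange]
    simp
  calc Module.finrank K (K ⊗[A] C) ≤ Module.finrank K (K ⊗[A] (Fin N → A)) :=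
        LinearMap.finrank_le_finrank_of_surjective hs
    _ = N := h1

theorem algPtSplit_base {A C A₁ Q : Type u} [CommRing A] [CommRing C] [CommRing A₁] [CommRing Q]
    [Algebra A C] [Algebra A A₁] [Algebra A₁ Q] [Algebra A Q] [IsScalarTower A A₁ Q]
    (h : AlgPtSplit A C Q) : AlgPtSplit A₁ (A₁ ⊗[A] C) Q := by
  intro Ω _ c a hca
  obtain ⟨s, hs⟩ := h Ω (c.comp (Algebra.TensorProduct.includeRight : C →ₐ[A] A₁ ⊗[A] C).toRingHom) a (by
    ext x
    have h1 := RingHom.congr_fun hca (algebraMap A A₁ x)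
    simp only [RingHom.comp_apply] at h1 ⊢
    rw [← IsScalarTower.algebraMap_apply] at h1
    rw [← IsScalarTower.algebraMap_apply A A₁ Q, ] at h1
    rw [← h1]
    congr 1
    exact (Algebra.TensorProduct.includeRight : C →ₐ[A] A₁ ⊗[A] C).commutes x)
  refine ⟨Algebra.TensorProduct.lift (Algebra.ofId A₁ Q) s (fun _ _ => Commute.all _ _), ?_⟩
  refine RingHom.ext fun x => ?_
  induction x with
  | zero => simp
  | add x y hx hy => rw [map_add, map_add, hx, hy]
  | tmul x y =>
    have h1 := RingHom.congr_fun hs y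
    have h2 := RingHom.congr_fun hca x
    simp only [RingHom.comp_apply] at h1 h2
    change a (Algebra.TensorProduct.lift (Algebra.ofId A₁ Q) s (fun _ _ => Commute.all _ _) (x ⊗ₜ y)) = c (x ⊗ₜ y)
    rw [Algebra.TensorProduct.lift_tmul, map_mul]
    have h3 : a ((Algebra.ofId A₁ Q) x) = c (x ⊗ₜ 1) := h2.symm
    have h4 : a (s y) = c (1 ⊗ₜ y) := h1
    rw [h3, h4, ← map_mul, Algebra.TensorProduct.tmul_mul_tmul, mul_one, one_mul]

theorem algPtSplit_of_base {A C A₁ Q : Type u} [CommRing A] [CommRing C] [CommRing A₁] [CommRing Q]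
    [Algebra A C] [Algebra A A₁] [Algebra A₁ Q] [Algebra A Q] [IsScalarTower A A₁ Q]
    (h : AlgPtSplit A₁ (A₁ ⊗[A] C) Q) : AlgPtSplit A C Q := by
  intro Ω _ c a hca
  let _ : Algebra A Ω := (c.comp (algebraMap A C)).toAlgebra
  have ha : ∀ x, a (algebraMap A₁ Q (algebraMap A A₁ x)) = algebraMap A Ω x := by
    intro x
    rw [← IsScalarTower.algebraMap_apply]
    exact (RingHom.congr_fun hca x).symm
  let a' : A₁ →ₐ[A] Ω := { a.comp (algebraMap A₁ Q) with commutes' := ha }
  let c' : C →ₐ[A] Ω := { c with commutes' := fun _ => rfl }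
  obtain ⟨s, hs⟩ := h Ω (Algebra.TensorProduct.lift a' c' (fun _ _ => Commute.all _ _)).toRingHom a (by
    ext x
    change Algebra.TensorProduct.lift a' c' (fun _ _ => Commute.all _ _) (x ⊗ₜ 1) = _
    rw [Algebra.TensorProduct.lift_tmul, map_one, mul_one]
    rfl)
  refine ⟨(s.restrictScalars A).comp Algebra.TensorProduct.includeRight, ?_⟩
  ext x
  have := RingHom.congr_fun hs (1 ⊗ₜ x)
  refine this.trans ?_
  change Algebra.TensorProduct.lift a' c' (fun _ _ => Commute.all _ _) (1 ⊗ₜ x) = _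
  rw [Algebra.TensorProduct.lift_tmul, map_one, one_mul]
  rfl

/-- Restriction of the target along `A → A₁ → Q`. -/
theorem algPtSplit_self_base {A C A₁ : Type u} [CommRing A] [CommRing C] [CommRing A₁]
    [Algebra A C] [Algebra A A₁] (h : AlgPtSplit A₁ (A₁ ⊗[A] C) A₁) : AlgPtSplit A C A₁ :=
  algPtSplit_of_base (A₁ := A₁) h

end Groth.Agent.Pi1.H391.Split1
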