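import Groth.Agent.Pi1.H391.SplitNormal
import Groth.Agent.Pi1.H391.KumTensor
import Groth.Agent.Pi1.H391.Base
import Groth.Agent.Pi1.H272.LazPerm

/-!
# Splitting after an integral base change to a normal strictly henselian base
-/

set_option autoImplicit false

universe u

open TensorProduct IsLocalRing

namespace Groth.Agent.Pi1.H391.SplitBase

open Stmts Stmts2 Stmts3 Split1

theorem isScalarTower_toAlgebra {A B C : Type u} [CommRing A] [CommRing B] [CommRing C] [Algebra A B]
    (F : B →+* C) :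
    letI : Algebra B C := F.toAlgebra
    letI : Algebra A C := (F.comp (algebraMap A B)).toAlgebra
    IsScalarTower A B C := by
  let _ : Algebra B C := F.toAlgebra
  let _ : Algebra A C := (F.comp (algebraMap A B)).toAlgebra
  exact IsScalarTower.of_algebraMap_eq fun _ => rfl

/-- If `K` is a field and `L` is generated over `K` by the image of `Rt' ⊗ C`, where `R' → K → L` and `Rt'` is a
localization of `R'`, it is generated by the image of `C`. -/
theorem adjoin_eq_top {Rt R' Rt' C K L : Type u} [CommRing Rt] [CommRing R'] [CommRing Rt'] [CommRing C]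
    [Algebra Rt C] [Algebra Rt Rt'] [Algebra R' Rt'] (M : Submonoid R') [IsLocalization M Rt']
    [Field K] [Field L] [Algebra K L] (k : R' →+* K) (c : Rt' ⊗[Rt] C →+* L)
    (hc : ∀ x, c (algebraMap R' Rt' x ⊗ₜ 1) = algebraMap K L (k x))
    (hgen : Algebra.adjoin K (Set.range c) = ⊤) :
    Algebra.adjoin K (Set.range (c.comp (Algebra.TensorProduct.includeRight : C →ₐ[Rt] Rt' ⊗[Rt] C).toRingHom))
      = ⊤ := by
  have h1 : ∀ a : Rt', ∃ b : K, c (a ⊗ₜ 1) = algebraMap K L b := by
    intro a
    obtain ⟨⟨r, s⟩, hrs⟩ := IsLocalization.surj M a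
    have h2 : c (a ⊗ₜ 1) * algebraMap K L (k s) = algebraMap K L (k r) := by
      rw [← hc, ← hc, ← map_mul, Algebra.TensorProduct.tmul_mul_tmul, mul_one, hrs]
    have h3 : algebraMap K L (k s) ≠ 0 := by
      rw [← hc]
      have h4 : IsUnit (algebraMap R' Rt' s) := IsLocalization.map_units Rt' s
      exact ((h4.map (algebraMap Rt' (Rt' ⊗[Rt] C))).map c).ne_zero
    refine ⟨k r / k s, ?_⟩
    rw [map_div₀, eq_div_iff h3, h2]
  rw [eq_top_iff, ← hgen]
  apply Algebra.adjoin_le
  rintro _ ⟨x, rfl⟩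
  induction x with
  | zero => rw [map_zero]; exact zero_mem _
  | add x y hx hy => rw [map_add]; exact add_mem hx hy
  | tmul a y =>
    obtain ⟨b, hb⟩ := h1 a
    have h2 : a ⊗ₜ[Rt] y = (a ⊗ₜ 1) * (1 ⊗ₜ y) := by simp
    rw [h2, map_mul, hb, ← Algebra.smul_def]
    refine Subalgebra.smul_mem _ (Algebra.subset_adjoin ?_) b
    exact ⟨y, rfl⟩

theorem split_base (hK : KummerStage.{u}) (hAbh : AbhDVR.{u}) (hNC : NormalChart.{u})
    (hSE : SplitOfExt.{u})
    (O R : Type u) [CommRing O] [IsLocalRing O] [IsSepClosed (ResidueField O)]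
    [CommRing R] [HenselianLocalRing R] [IsSepClosed (ResidueField R)]
    [Algebra O R] [IsLocalHom (algebraMap O R)]
    (σ : Type) [Finite σ] [Algebra (MvPolynomial σ O) R] [IsScalarTower O (MvPolynomial σ O) R]
    (hL : Groth.Agent.Hensel.Lazard.Laz (MvPolynomial σ O) R)
    (ι : Type) [Fintype ι] (e : ι → σ) (he : Function.Injective e) (t : ι → R)
    (hte : ∀ i, algebraMap (MvPolynomial σ O) R (MvPolynomial.X (e i)) = t i)
    (ht : ∀ i, t i ∈ maximalIdeal R)
    (Rt : Type u) [CommRing Rt] [Algebra R Rt] [IsLocalization.Away (∏ i, t i) Rt]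
    (C : Type u) [CommRing C] [Algebra Rt C] [Module.Finite Rt C] [Algebra.Etale Rt C]
    (N : ℕ) (hN : ∀ (K : Type u) [Field K] [Algebra Rt K], Module.finrank K (K ⊗[Rt] C) ≤ N)
    (O' : Type u) [CommRing O'] [IsDomain O'] [IsLocalRing O'] [IsIntegrallyClosed O'] [Algebra O O']
    [Algebra.IsIntegral O O']
    (htame : ∀ (P : Ideal (O' ⊗[O] R)) [P.IsPrime] (_ : ∀ a : O', a ⊗ₜ[O] (1 : R) ∈ P → a = 0)
      (B : Type u) [CommRing B] [IsDomain B] [IsDiscreteValuationRing B] [Algebra (O' ⊗[O] R) B]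
      [IsLocalization.AtPrime B P]
      (K : Type u) [Field K] [Algebra B K] [IsFractionRing B K]
      (L : Type u) [Field L] [Algebra K L] (c : C →+* L)
      (_ : c.comp ((algebraMap Rt C).comp (algebraMap R Rt)) =
        ((((algebraMap K L).comp (algebraMap B K)).comp
        (algebraMap (O' ⊗[O] R) B)).comp (Algebra.TensorProduct.includeRight : R →ₐ[O] O' ⊗[O] R).toRingHom))
      (_ : Algebra.adjoin K (Set.range c) = ⊤),
      EtRam.IsTamelyRamified B ((algebraMap K L).comp (algebraMap B K)))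
    (A : Type u) [CommRing A] [Algebra (SGA1t.kummer R t (fun _ => N.factorial)) A] [Algebra R A]
    [IsScalarTower R (SGA1t.kummer R t (fun _ => N.factorial)) A] [Algebra Rt A] [IsScalarTower R Rt A]
    [Algebra O A] [IsScalarTower O R A]
    [IsLocalization.Away (algebraMap R (SGA1t.kummer R t (fun _ => N.factorial)) (∏ i, t i)) A] :
    AlgPtSplit A (A ⊗[Rt] C) (A ⊗[O] O') := by
  -- the ring `R' = O' ⊗ R`
  let R' := O' ⊗[O] R
  have hlR' : IsLocalRing R' := LocTensor.isLocalRing_tensor O O' R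
  have hhR' : HenselianLocalRing R' := Base.henselianLocalRing_tensor O O' R
  have hsR' : IsSepClosed (ResidueField R') := Base.isSepClosed_residueField O O' R
  have hlO' : IsLocalHom (algebraMap O' R') := Base.isLocalHom_left O O' R
  have hlR : IsLocalHom (Algebra.TensorProduct.includeRight : R →ₐ[O] O' ⊗[O] R).toRingHom :=
    Base.isLocalHom_includeRight O O' R
  obtain ⟨_, _, hL', hp⟩ := Groth.Agent.Pi1.H272.LazPerm.exists_poly_baseChange hL O'
  let t' : ι → R' := fun i => 1 ⊗ₜ t i
  have hte' : ∀ i, algebraMap (MvPolynomial σ O') R' (MvPolynomial.X (e i)) = t' i := by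
    intro i
    have := hp (MvPolynomial.X (e i))
    rw [MvPolynomial.map_X, hte] at this
    exact this
  have ht' : ∀ i, t' i ∈ maximalIdeal R' := by
    intro i hu
    exact ht i ((isUnit_map_iff (Algebra.TensorProduct.includeRight : R →ₐ[O] O' ⊗[O] R).toRingHom (t i)).mp hu)
  have hprod : (∏ i, t' i) = (1 : O') ⊗ₜ[O] (∏ i, t i) :=
    (map_prod (Algebra.TensorProduct.includeRight : R →ₐ[O] O' ⊗[O] R) t Finset.univ).symm
  let Rt' := Localization.Away (∏ i, t' i)
  let ρ : R →+* Rt' := (algebraMap R' Rt').comp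
    (Algebra.TensorProduct.includeRight : R →ₐ[O] O' ⊗[O] R).toRingHom
  let ρt : Rt →+* Rt' := IsLocalization.lift (M := Submonoid.powers (∏ i, t i)) (g := ρ) (by
    rintro ⟨_, m, rfl⟩
    rw [map_pow]
    refine IsUnit.pow m ?_
    change IsUnit (algebraMap R' Rt' ((1 : O') ⊗ₜ[O] (∏ i, t i)))
    rw [← hprod]
    exact IsLocalization.map_units Rt' (⟨_, Submonoid.mem_powers _⟩ : Submonoid.powers (∏ i, t' i)))
  have hρt : ∀ r, ρt (algebraMap R Rt r) = algebraMap R' Rt' (1 ⊗ₜ r) := fun r => IsLocalization.lift_eq _ r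
  let _ : Algebra Rt Rt' := ρt.toAlgebra
  have hρt' : ∀ x, algebraMap Rt Rt' x = ρt x := fun _ => rfl
  -- the localization of the Kummer algebra
  obtain ⟨F, hF, hFloc⟩ := KumTensor.exists_isLocalization t (fun _ => N.factorial) O' A t' (fun _ => rfl)
    (∏ i, t i)
  let Q := A ⊗[O] O'
  let _ : Algebra (SGA1t.kummer R' t' (fun _ => N.factorial)) Q := F.toAlgebra
  let _ : Algebra R' Q := (F.comp (algebraMap R' (SGA1t.kummer R' t' (fun _ => N.factorial)))).toAlgebra
  have hst1 : IsScalarTower R' (SGA1t.kummer R' t' (fun _ => N.factorial)) Q :=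
    isScalarTower_toAlgebra (A := R') (B := SGA1t.kummer R' t' (fun _ => N.factorial)) F
  have hR'Q : ∀ a r, algebraMap R' Q (a ⊗ₜ r) = algebraMap R A r ⊗ₜ a := fun a r => hF a r
  let qt : Rt' →+* Q := IsLocalization.lift (M := Submonoid.powers (∏ i, t' i)) (g := algebraMap R' Q) (by
    rintro ⟨_, m, rfl⟩
    rw [map_pow]
    refine IsUnit.pow m ?_
    rw [hprod, hR'Q]
    have hu : IsUnit (algebraMap R A (∏ i, t i)) := by
      rw [IsScalarTower.algebraMap_apply R Rt A]
      exact (IsLocalization.map_units Rt (⟨_, Submonoid.mem_powers _⟩ :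
        Submonoid.powers (∏ i, t i))).map (algebraMap Rt A)
    exact hu.map (algebraMap A (A ⊗[O] O')))
  let _ : Algebra Rt' Q := qt.toAlgebra
  have hst2 : IsScalarTower R' Rt' Q := IsScalarTower.of_algebraMap_eq fun x =>
    (IsLocalization.lift_eq (M := Submonoid.powers (∏ i, t' i)) _ x).symm
  have hloc : IsLocalization.Away (algebraMap R' (SGA1t.kummer R' t' (fun _ => N.factorial)) (∏ i, t' i)) Q := by
    rw [hprod]
    exact hFloc
  have hsplit : AlgPtSplit Rt' (Rt' ⊗[Rt] C) Q := by
    refine SplitNormal.split_normal hK hAbh hNC hSE O' R' σ hL' ι e he t' hte' ht' Rt' (Rt' ⊗[Rt] C) N ?_ ?_ Q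
    · intro K _ _
      let _ : Algebra Rt K := ((algebraMap Rt' K).comp (algebraMap Rt Rt')).toAlgebra
      have : IsScalarTower Rt Rt' K := IsScalarTower.of_algebraMap_eq fun _ => rfl
      have h1 := hN K
      have h2 : Module.finrank K (K ⊗[Rt'] (Rt' ⊗[Rt] C)) = Module.finrank K (K ⊗[Rt] C) :=
        LinearEquiv.finrank_eq (Algebra.TensorProduct.cancelBaseChange Rt Rt' K K C).toLinearEquiv
      rw [h2]
      exact h1
    · intro i _ hz B _ _ _ _ _ K _ _ _ L _ _ c hc hgen
      have hc1 : ∀ x, c (algebraMap R' Rt' x ⊗ₜ 1) =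
          algebraMap K L (algebraMap B K (algebraMap R' B x)) := fun x => RingHom.congr_fun hc x
      refine htame (Ideal.span {t' i}) hz B K L (c.comp
        (Algebra.TensorProduct.includeRight : C →ₐ[Rt] Rt' ⊗[Rt] C).toRingHom) ?_ ?_
      · ext x
        change c ((Algebra.TensorProduct.includeRight : C →ₐ[Rt] Rt' ⊗[Rt] C)
          (algebraMap Rt C (algebraMap R Rt x))) =
          algebraMap K L (algebraMap B K (algebraMap R' B (1 ⊗ₜ x)))
        rw [← hc1, AlgHom.commutes, ← hρt]
        rfl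
      · exact adjoin_eq_top (Submonoid.powers (∏ i, t' i)) ((algebraMap B K).comp (algebraMap R' B)) c hc1 hgen
  -- descend to `C`
  let _ : Algebra Rt Q := Algebra.TensorProduct.leftAlgebra
  have hst3 : IsScalarTower Rt A Q := inferInstance
  have hst4 : IsScalarTower Rt Rt' Q := by
    refine IsScalarTower.of_algebraMap_eq fun x => ?_
    have h1 : (algebraMap Rt Q) = (algebraMap Rt' Q).comp (algebraMap Rt Rt') := by
      refine IsLocalization.ringHom_ext (Submonoid.powers (∏ i, t i)) ?_
      ext r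
      change algebraMap A Q (algebraMap Rt A (algebraMap R Rt r)) =
        algebraMap Rt' Q (ρt (algebraMap R Rt r))
      rw [hρt, ← IsScalarTower.algebraMap_apply R Rt A, ← IsScalarTower.algebraMap_apply R' Rt' Q, hR'Q]
      rfl
    exact RingHom.congr_fun h1 x
  have h3 : AlgPtSplit Rt C Q := algPtSplit_of_base (A₁ := Rt') hsplit
  exact algPtSplit_base h3

end Groth.Agent.Pi1.H391.SplitBase
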