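import Groth.Agent.Pi1.H391.SplitBase
import Groth.Agent.Pi1.H391.General
import Groth.Agent.Pi1.H392.TameRing
import Groth.Agent.Pi1.H560.TameStage
import Groth.Agent.Pi1.H938.ConnStage
import Groth.Agent.Pi1.H940.SchemeAlg
import Groth.Agent.Pi1.H170.KummerStage
import Groth.Agent.Pi1.H393.StarNormal
import Groth.Agent.Pi1.H414.AbhDVR
import Groth.Agent.Pi1.H521.NormalChart
import Groth.Agent.Pi1.H644.SplitOfExt
import Groth.Agent.Pi1.H139.OneFibre
import Groth.Agent.Pi1.H273.ChartSH
import Groth.Agent.Pi1.H415.FinalC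
import Groth.Agent.Pi1.H415.KumFlat

/-!
# The relative Abhyankar lemma: some Kummer cover splits a relatively tame cover
-/

set_option autoImplicit false

universe u

open CategoryTheory CategoryTheory.Limits AlgebraicGeometry TensorProduct IsLocalRing

namespace Groth.Agent.Pi1.H391.SplitKum

open Stmts Stmts2 Stmts3 Split1
open Groth.Agent.Pi1.H415.SplitBC Groth.Agent.Pi1.H415.KumBC Groth.Agent.Pi1.H415.Glue

section

variable {O R : Type u} [CommRing O] [CommRing R] [Algebra O R]
    (σ : Type) [Algebra (MvPolynomial σ O) R] [IsScalarTower O (MvPolynomial σ O) R]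
    (hL : Groth.Agent.Hensel.Lazard.Laz (MvPolynomial σ O) R)
    {ι : Type} [Finite ι] (t : ι → R) (n : ι → ℕ) (hn : ∀ i, 1 ≤ n i)

include hL hn in
theorem flat (p : R) (A : Type u) [CommRing A] [Algebra (SGA1t.kummer R t n) A] [Algebra R A]
    [IsScalarTower R (SGA1t.kummer R t n) A] [Algebra O A] [IsScalarTower O R A]
    [IsLocalization.Away (algebraMap R (SGA1t.kummer R t n) p) A] : Module.Flat O A := by
  have h1 : Module.Flat (SGA1t.kummer R t n) A :=
    IsLocalization.flat A (Submonoid.powers (algebraMap R (SGA1t.kummer R t n) p))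
  have h2 : Module.Flat R (SGA1t.kummer R t n) := Groth.Agent.Pi1.H415.KumFlat.flat ι R t n hn
  have h3 : Module.Flat R A := Module.Flat.trans R (SGA1t.kummer R t n) A
  have h4 : Module.Flat (MvPolynomial σ O) R := hL.flat
  have h5 : Module.Flat O R := Module.Flat.trans O (MvPolynomial σ O) R
  exact Module.Flat.trans O R A

end

theorem exists_loc (O R Kr : Type u) [CommRing O] [CommRing R] [Algebra O R] [CommRing Kr] [Algebra R Kr]
    [Algebra O Kr] [IsScalarTower O R Kr] (p : R) (Rt : Type u) [CommRing Rt] [Algebra R Rt]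
    [IsLocalization.Away p Rt] :
    ∃ (A : Type u) (_ : CommRing A) (_ : Algebra Kr A) (_ : Algebra R A) (_ : Algebra O A) (_ : Algebra Rt A),
      IsScalarTower R Kr A ∧ IsScalarTower R Rt A ∧ IsScalarTower O R A ∧ IsScalarTower O Kr A ∧
      IsLocalization.Away (algebraMap R Kr p) A := by
  let A := Localization.Away (algebraMap R Kr p)
  let g : Rt →+* A := IsLocalization.lift (M := Submonoid.powers p) (g := algebraMap R A) (by
    rintro ⟨_, m, rfl⟩
    rw [map_pow]
    refine IsUnit.pow m ?_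
    rw [IsScalarTower.algebraMap_apply R Kr A]
    exact IsLocalization.map_units A (⟨_, Submonoid.mem_powers _⟩ : Submonoid.powers (algebraMap R Kr p)))
  refine ⟨A, inferInstance, inferInstance, inferInstance, inferInstance, g.toAlgebra, inferInstance, ?_,
    inferInstance, inferInstance, inferInstance⟩
  let _ : Algebra Rt A := g.toAlgebra
  exact IsScalarTower.of_algebraMap_eq fun x =>
    (IsLocalization.lift_eq (M := Submonoid.powers p) _ x).symm

theorem alg_main
    (O R : Type u) [CommRing O] [HenselianLocalRing O] [IsSepClosed (ResidueField O)]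
    [CommRing R] [HenselianLocalRing R] [IsSepClosed (ResidueField R)]
    [Algebra O R] [IsLocalHom (algebraMap O R)]
    (σ : Type) [Finite σ] [Algebra (MvPolynomial σ O) R] [IsScalarTower O (MvPolynomial σ O) R]
    (hL : Groth.Agent.Hensel.Lazard.Laz (MvPolynomial σ O) R)
    (ι : Type) [Fintype ι] (e : ι → σ) (he : Function.Injective e) (t : ι → R)
    (hte : ∀ i, algebraMap (MvPolynomial σ O) R (MvPolynomial.X (e i)) = t i)
    (ht : ∀ i, t i ∈ maximalIdeal R)
    (Rt : Type u) [CommRing Rt] [Algebra R Rt] [IsLocalization.Away (∏ i, t i) Rt]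
    (C : Type u) [CommRing C] [Algebra Rt C] [Module.Finite Rt C] [Algebra.Etale Rt C]
    (N : ℕ) (hN : ∀ (K : Type u) [Field K] [Algebra Rt K], Module.finrank K (K ⊗[Rt] C) ≤ N)
    (htame : ∀ (O' Ω : Type u) [CommRing O'] [IsDomain O'] [Algebra O O'] [Field Ω] [IsSepClosed Ω] [Algebra O' Ω]
      [IsFractionRing O' Ω] (_ : RingHom.ker (algebraMap O O') ∈ minimalPrimes O)
      (P : Ideal (O' ⊗[O] R)) [P.IsPrime] (_ : ∀ a : O', a ⊗ₜ[O] (1 : R) ∈ P → a = 0)
      (B : Type u) [CommRing B] [IsDomain B] [IsDiscreteValuationRing B] [Algebra (O' ⊗[O] R) B]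
      [IsLocalization.AtPrime B P]
      (K : Type u) [Field K] [Algebra B K] [IsFractionRing B K]
      (L : Type u) [Field L] [Algebra K L] (c : C →+* L)
      (_ : c.comp ((algebraMap Rt C).comp (algebraMap R Rt)) =
        ((((algebraMap K L).comp (algebraMap B K)).comp
        (algebraMap (O' ⊗[O] R) B)).comp (Algebra.TensorProduct.includeRight : R →ₐ[O] O' ⊗[O] R).toRingHom))
      (_ : Algebra.adjoin K (Set.range c) = ⊤),
      EtRam.IsTamelyRamified B ((algebraMap K L).comp (algebraMap B K)))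
    (A : Type u) [CommRing A] [Algebra (SGA1t.kummer R t (fun _ => N.factorial)) A] [Algebra R A]
    [IsScalarTower R (SGA1t.kummer R t (fun _ => N.factorial)) A] [Algebra Rt A] [IsScalarTower R Rt A]
    [Algebra O A] [IsScalarTower O R A] [IsScalarTower O (SGA1t.kummer R t (fun _ => N.factorial)) A]
    [IsLocalization.Away (algebraMap R (SGA1t.kummer R t (fun _ => N.factorial)) (∏ i, t i)) A] :
    AlgPtSplit Rt C A := by
  have hn : ∀ _ : ι, 1 ≤ N.factorial := fun _ => Nat.factorial_pos N
  have hflat : Module.Flat O A := flat σ hL t (fun _ => N.factorial) hn (∏ i, t i) A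
  refine algPtSplit_self_base (A₁ := A) ?_
  refine General.main (O := O) (A := A) (C := A ⊗[Rt] C) ?_ ?_ Groth.Agent.Pi1.H139.OneFibre.main
  · intro O' _ _ _ _
    exact Groth.Agent.Pi1.H938.ConnStage.connStage O R σ hL ι e he t hte ht (fun _ => N.factorial) hn A O'
  · intro η hη
    have hηp : η.IsPrime := hη.1.1
    obtain ⟨Ω, _, _, O', _, _, _, _, _, _, _, _, -, -, hker⟩ := Base.exists_base O η
    refine ⟨O', inferInstance, inferInstance, inferInstance, inferInstance, hker, ?_⟩
    exact SplitBase.split_base (Groth.Agent.Pi1.H170.KummerStage.kummerStage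
      Groth.Agent.Pi1.H393.StarNormal.starNormal) Groth.Agent.Pi1.H414.AbhDVR.abhDVR
      Groth.Agent.Pi1.H521.NormalChart.normalChart Groth.Agent.Pi1.H644.SplitOfExt.splitOfExt
      O R σ hL ι e he t hte ht Rt C N hN O' (htame O' Ω (hker ▸ hη)) A

theorem splitKum : Groth.Agent.Pi1.H415.FinalC.SplitKum.{u} := by
  intro X S f r φ hD x hx R _ _ _ _ _ V₁ ht
  classical
  let _ : Algebra (S.presheaf.stalk (f x)) R :=
    ((algebraMap (X.presheaf.stalk x) R).comp (f.stalkMap x).hom).toAlgebra
  have hR : algebraMap (S.presheaf.stalk (f x)) R =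
    (algebraMap (X.presheaf.stalk x) R).comp (f.stalkMap x).hom := rfl
  obtain ⟨O, _, _, _, _, _, _, _, _, d, _, _, hL, e, he, hte⟩ :=
    Groth.Agent.Pi1.H273.ChartSH.chartSH f φ hD x hx R hR
  have hRh : HenselianLocalRing R := Hensel.IsStrictHenselization.henselian (X.presheaf.stalk x)
  have hRs : IsSepClosed (ResidueField R) :=
    (Hensel.IsStrictHenselization.isSepClosure (R := X.presheaf.stalk x) (S := R)).1
  have hOh : HenselianLocalRing O := Hensel.IsStrictHenselization.henselian (S.presheaf.stalk (f x))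
  have hOs : IsSepClosed (ResidueField O) :=
    (Hensel.IsStrictHenselization.isSepClosure (R := S.presheaf.stalk (f x)) (S := O)).1
  have : Finite (SGA1t.vanishingAt φ x) := Groth.Agent.Pi1.H394.SNCConn.finite_vanishingAt φ x
  let _ : Fintype (SGA1t.vanishingAt φ x) := Fintype.ofFinite _
  have htm : ∀ i, eqs φ x R i ∈ maximalIdeal R := eqs_mem φ x R
  let Rt := Localization.Away (∏ i, eqs φ x R i)
  obtain ⟨C, _, _, _, _, hpt, hPS⟩ := Groth.Agent.Pi1.H940.SchemeAlg.schemeAlg φ x R V₁ Rt
  obtain ⟨N, hN⟩ := exists_bound Rt C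
  have hn : ∀ _ : SGA1t.vanishingAt φ x, 1 ≤ N.factorial := fun _ => Nat.factorial_pos N
  refine ⟨fun _ => N.factorial, hn, ?_⟩
  obtain ⟨A, _, _, _, _, _, h1, h2, h3, h4, h5⟩ := exists_loc O R
    (SGA1t.kummer R (eqs φ x R) (fun _ => N.factorial)) (∏ i, eqs φ x R i) Rt
  have h1' : IsScalarTower R (SGA1t.kummer R (eqs φ x R) (fun _ => N.factorial)) A := h1
  have h4' : IsScalarTower O (SGA1t.kummer R (eqs φ x R) (fun _ => N.factorial)) A := h4
  refine hPS (fun _ => N.factorial) A ?_
  refine alg_main O R (Fin d) hL (SGA1t.vanishingAt φ x) e he (eqs φ x R) hte htm Rt C N hN ?_ A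
  intro O' Ω _ _ _ _ _ _ _ hker P _ hP B _ _ _ _ _ K _ _ _ L _ _ c hc hgen
  obtain ⟨v, hv, hrange⟩ := hpt L c
  refine Groth.Agent.Pi1.H560.TameStage.tameStage Groth.Agent.Pi1.H392.TameRing.tameRing f φ x R V₁ ht hR
    O O' Ω hker P hP B K L v ?_ ?_
  · rw [hv, RingHom.comp_assoc, hc]
  · rw [hrange]
    exact hgen

end Groth.Agent.Pi1.H391.SplitKum
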