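import Groth.Agent.Pi1.H391.Split1
import Groth.Agent.Pi1.H415.KumSH

/-!
# Splitting over a normal base
-/

set_option autoImplicit false

universe u

open TensorProduct IsLocalRing

namespace Groth.Agent.Pi1.H391.SplitNormal

open Stmts Stmts2 Stmts3 Split1

theorem adjoin_range_eq_top {A C K L : Type u} [CommRing A] [CommRing C] [Algebra A C] [Field K] [Algebra A K]
    [Field L] [Algebra K L] (g : K ⊗[A] C →ₐ[K] L) (hg : Function.Surjective g) :
    Algebra.adjoin K (Set.range (g.toRingHom.comp
      (Algebra.TensorProduct.includeRight : C →ₐ[A] K ⊗[A] C).toRingHom)) = ⊤ := by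
  rw [eq_top_iff]
  rintro y -
  obtain ⟨x, rfl⟩ := hg y
  induction x with
  | zero => rw [map_zero]; exact zero_mem _
  | add x y hx hy => rw [map_add]; exact add_mem hx hy
  | tmul a c =>
    have h1 : a ⊗ₜ[A] c = a • ((1 : K) ⊗ₜ[A] c) := by
      rw [TensorProduct.smul_tmul', smul_eq_mul, mul_one]
    rw [h1, map_smul]
    refine Subalgebra.smul_mem _ (Algebra.subset_adjoin ?_) a
    exact ⟨c, rfl⟩

theorem split_normal (hK : KummerStage.{u}) (hAbh : AbhDVR.{u}) (hNC : NormalChart.{u})
    (hSE : SplitOfExt.{u})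
    (O R : Type u) [CommRing O] [IsDomain O] [IsLocalRing O] [IsIntegrallyClosed O]
    [CommRing R] [HenselianLocalRing R] [IsSepClosed (ResidueField R)]
    [Algebra O R] [IsLocalHom (algebraMap O R)]
    (σ : Type) [Finite σ] [Algebra (MvPolynomial σ O) R] [IsScalarTower O (MvPolynomial σ O) R]
    (hL : Groth.Agent.Hensel.Lazard.Laz (MvPolynomial σ O) R)
    (ι : Type) [Fintype ι] (e : ι → σ) (he : Function.Injective e) (t : ι → R)
    (hte : ∀ i, algebraMap (MvPolynomial σ O) R (MvPolynomial.X (e i)) = t i)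
    (ht : ∀ i, t i ∈ maximalIdeal R)
    (Rt : Type u) [CommRing Rt] [Algebra R Rt] [IsLocalization.Away (∏ i, t i) Rt]
    (C : Type u) [CommRing C] [Algebra Rt C] [Module.Finite Rt C] [Algebra.Etale Rt C]
    (N : ℕ) (hN : ∀ (K : Type u) [Field K] [Algebra Rt K], Module.finrank K (K ⊗[Rt] C) ≤ N)
    (htame : ∀ (i : ι) [(Ideal.span {t i}).IsPrime]
      (_ : ∀ a : O, algebraMap O R a ∈ Ideal.span {t i} → a = 0)
      (B : Type u) [CommRing B] [IsDomain B] [IsDiscreteValuationRing B] [Algebra R B]
      [IsLocalization.AtPrime B (Ideal.span {t i})]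
      (K : Type u) [Field K] [Algebra B K] [IsFractionRing B K]
      (L : Type u) [Field L] [Algebra K L] (c : C →+* L)
      (_ : c.comp ((algebraMap Rt C).comp (algebraMap R Rt)) =
        (algebraMap K L).comp ((algebraMap B K).comp (algebraMap R B)))
      (_ : Algebra.adjoin K (Set.range c) = ⊤),
      EtRam.IsTamelyRamified B ((algebraMap K L).comp (algebraMap B K)))
    (Q : Type u) [CommRing Q] [Algebra (SGA1t.kummer R t (fun _ => N.factorial)) Q] [Algebra R Q]
    [IsScalarTower R (SGA1t.kummer R t (fun _ => N.factorial)) Q] [Algebra Rt Q] [IsScalarTower R Rt Q]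
    [IsLocalization.Away (algebraMap R (SGA1t.kummer R t (fun _ => N.factorial)) (∏ i, t i)) Q] :
    AlgPtSplit Rt C Q := by
  obtain ⟨hdom, hic, hpr⟩ := hNC O R σ hL
  let K := FractionRing R
  have hP : ∀ i, (Ideal.span {t i}).IsPrime := fun i => (hpr (e i) (t i) (hte i) (ht i)).1
  have hne : ∀ i, t i ≠ 0 := by
    intro i h0
    have := hP i
    have hD : IsDomain (Localization.AtPrime (Ideal.span {t i})) := inferInstance
    have h1 := ((hpr (e i) (t i) (hte i) (ht i)).2.2 (Localization.AtPrime (Ideal.span {t i}))).2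
    exact h1.ne_zero ((congrArg (algebraMap R (Localization.AtPrime (Ideal.span {t i}))) h0).trans (map_zero _))
  have hprod : (∏ i, t i) ≠ 0 := Finset.prod_ne_zero_iff.mpr fun i _ => hne i
  have hn : ∀ _ : ι, 1 ≤ N.factorial := fun _ => Nat.factorial_pos N
  let f : Rt →+* K := IsLocalization.lift (M := Submonoid.powers (∏ i, t i)) (g := algebraMap R K) (by
    rintro ⟨_, n, rfl⟩
    rw [map_pow]
    exact (IsUnit.mk0 _ (fun h => hprod
      ((IsFractionRing.injective R K) (by rw [h, map_zero])))).pow n)
  let _ : Algebra Rt K := f.toAlgebra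
  have hst : IsScalarTower R Rt K := IsScalarTower.of_algebraMap_eq fun x =>
    (IsLocalization.lift_eq (M := Submonoid.powers (∏ i, t i)) _ x).symm
  have : HenselianLocalRing (SGA1t.kummer R t (fun _ : ι => N.factorial)) :=
    Groth.Agent.Pi1.H415.KumSH.henselian t (fun _ : ι => N.factorial) ht hn
  have : IsSepClosed (ResidueField (SGA1t.kummer R t (fun _ : ι => N.factorial))) :=
    Groth.Agent.Pi1.H415.KumSH.isSepClosed_residueField t (fun _ : ι => N.factorial) ht hn
  obtain ⟨E, _, _, _, _, ⟨ψ⟩⟩ := hK O R σ hL ι e he t hte ht (fun _ => N.factorial) hn Rt K C (by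
    intro i
    have hPi := hP i
    let B := Localization.AtPrime (Ideal.span {t i})
    obtain ⟨hDVR, hirr⟩ := (hpr (e i) (t i) (hte i) (ht i)).2.2 B
    have hz := (hpr (e i) (t i) (hte i) (ht i)).2.1
    have hle : (Ideal.span {t i}).primeCompl ≤ nonZeroDivisors R := by
      intro x hx
      rw [mem_nonZeroDivisors_iff_ne_zero]
      rintro rfl
      exact hx (zero_mem _)
    let g : B →+* K := IsLocalization.lift (M := (Ideal.span {t i}).primeCompl) (g := algebraMap R K)
      (fun x => IsLocalization.map_units K (⟨x.1, hle x.2⟩ : nonZeroDivisors R))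
    let _ : Algebra B K := g.toAlgebra
    have hst' : IsScalarTower R B K := IsScalarTower.of_algebraMap_eq fun x =>
      (IsLocalization.lift_eq (M := (Ideal.span {t i}).primeCompl) _ x).symm
    have hFR : IsFractionRing B K :=
      IsFractionRing.isFractionRing_of_isDomain_of_isLocalization (Ideal.span {t i}).primeCompl B K
    obtain ⟨D, _, _, _, _, hD⟩ := hAbh B (algebraMap R B (t i)) hirr K (K ⊗[Rt] C) N (hN K) (by
      intro L _ _ g' hg'
      refine htame i hz B K L (g'.toRingHom.comp
        (Algebra.TensorProduct.includeRight : C →ₐ[Rt] K ⊗[Rt] C).toRingHom) ?_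
        (adjoin_range_eq_top g' hg')
      ext x
      change g' ((Algebra.TensorProduct.includeRight : C →ₐ[Rt] K ⊗[Rt] C)
        (algebraMap Rt C (algebraMap R Rt x))) = algebraMap K L (algebraMap B K (algebraMap R B x))
      rw [AlgHom.commutes, ← IsScalarTower.algebraMap_apply R B K,
        IsScalarTower.algebraMap_apply Rt K (K ⊗[Rt] C), AlgHom.commutes,
        ← IsScalarTower.algebraMap_apply R Rt K]) N.factorial (Nat.factorial_pos N) dvd_rfl
    exact ⟨B, inferInstance, inferInstance, inferInstance, hst', hPi, inferInstance, D, inferInstance,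
      inferInstance, inferInstance, inferInstance, hD⟩) Q
  exact hSE Rt C Q (SGA1t.kummer R t (fun _ : ι => N.factorial)) E ψ

end Groth.Agent.Pi1.H391.SplitNormal
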